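import Mathlib.RingTheory.KrullDimension.Basic
import Mathlib.RingTheory.Localization.Ideal
import Mathlib.RingTheory.Spectrum.Prime.Topology
import Mathlib.RingTheory.Localization.AtPrime.Basic
import Mathlib.Algebra.BigOperators.Fin
import Mathlib.Data.Nat.Basic

/-!
Elementary consequences of bounded Krull dimension for arbitrary rings (Coquand and Lombardi): complementary
sequences, Kronecker's theorem and the monomial relation.
-/

set_option autoImplicit false

universe u

namespace Groth.Agent.KrullCL

variable {A : Type u} [CommRing A]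

/-- chains of primes are shorter than `n` -/
def ChainLT (A : Type u) [CommRing A] (n : ℕ) : Prop := ∀ p : LTSeries (PrimeSpectrum A), p.length < n

theorem chainLT_of_ringKrullDim_le {d : ℕ} (h : ringKrullDim A ≤ (d : WithBot ℕ∞)) : ChainLT A (d + 1) := fun p => by
  have := (Order.LTSeries.length_le_krullDim p).trans h
  exact Nat.lt_succ_of_le (by exact_mod_cast this)

/-- the boundary monoid of an element -/
def bdry (x : A) : Submonoid A where
  carrier := {s | ∃ (k : ℕ) (a : A), s = x ^ k * (1 + a * x)}
  one_mem' := ⟨0, 0, by simp⟩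
  mul_mem' := by
    rintro _ _ ⟨k, a, rfl⟩ ⟨l, b, rfl⟩
    exact ⟨k + l, a + b + a * b * x, by ring⟩

theorem mem_bdry_self (x : A) : x ∈ bdry x := ⟨1, 0, by simp⟩

theorem chainLT_bdry (x : A) {n : ℕ} (h : ChainLT A (n + 1)) : ChainLT (Localization (bdry x)) n := fun p => by
  let f : PrimeSpectrum (Localization (bdry x)) → PrimeSpectrum A :=
    PrimeSpectrum.comap (algebraMap A (Localization (bdry x)))
  have hd : ∀ q : PrimeSpectrum (Localization (bdry x)), ∀ s ∈ bdry x, s ∉ (f q).asIdeal := fun q s hs hq =>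
    q.2.ne_top (Ideal.eq_top_of_isUnit_mem _ hq (IsLocalization.map_units _ ⟨s, hs⟩))
  have hf : StrictMono f := fun q q' hlt =>
    lt_of_le_of_ne (fun a ha => hlt.le ha) fun e =>
      hlt.ne (PrimeSpectrum.localization_comap_injective _ (bdry x) e)
  obtain ⟨m, hm, hle⟩ := (f p.last).asIdeal.exists_le_maximal (f p.last).2.ne_top
  have hne : f p.last < ⟨m, hm.isPrime⟩ := by
    refine lt_of_le_of_ne hle fun e => ?_
    have hx : x ∉ m := fun hx => hd p.last x (mem_bdry_self x) (by rw [e]; exact hx)
    obtain ⟨a, i, hi, hai⟩ := hm.exists_inv hx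
    exact hd p.last (1 + -a * x) ⟨0, -a, by ring⟩ (by
      rw [e]
      show 1 + -a * x ∈ m
      rwa [show 1 + -a * x = i by linear_combination -hai])
  have hl := h ((p.map f hf).snoc ⟨m, hm.isPrime⟩ (by rwa [LTSeries.last_map]))
  simp only [RelSeries.snoc_length, LTSeries.map_length] at hl
  omega

theorem subsingleton_of_chainLT_zero (h : ChainLT A 0) : Subsingleton A := by
  by_contra hA
  haveI := not_subsingleton_iff_nontrivial.1 hA
  obtain ⟨p⟩ : Nonempty (PrimeSpectrum A) := inferInstance
  exact absurd (h (RelSeries.singleton _ p)) (Nat.not_lt_zero _)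

theorem exists_mul_mem_span {ι : Type*} (S : Submonoid A) (f : ι → A) {z : A}
    (h : algebraMap A (Localization S) z ∈ Ideal.span (Set.range fun i => algebraMap A (Localization S) (f i))) :
    ∃ s ∈ S, s * z ∈ Ideal.span (Set.range f) := by
  have : Ideal.span (Set.range fun i => algebraMap A (Localization S) (f i)) =
      (Ideal.span (Set.range f)).map (algebraMap A (Localization S)) := by
    rw [Ideal.map_span, ← Set.range_comp]
    rfl
  rw [this, IsLocalization.algebraMap_mem_map_algebraMap_iff S] at h
  exact h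

/-- the monomial relation -/
theorem exists_prod_pow_mem : ∀ (n : ℕ) (A : Type u) [CommRing A], ChainLT A n → ∀ b : Fin n → A,
    ∃ N : ℕ, (∏ i, b i) ^ N ∈ Ideal.span (Set.range fun i => b i ^ (N + 1)) := by
  intro n
  induction n with
  | zero =>
    intro A _ hA b
    haveI := subsingleton_of_chainLT_zero hA
    exact ⟨0, by rw [Subsingleton.elim (_ ^ 0) (0 : A)]; exact zero_mem _⟩
  | succ n ih =>
    intro A _ hA b
    let x := b (Fin.last n)
    let S := bdry x
    obtain ⟨N, hN⟩ := ih (Localization S) (chainLT_bdry x hA) fun i => algebraMap A _ (b i.castSucc)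
    let P := ∏ i : Fin n, b i.castSucc
    simp only [← map_pow, ← map_prod] at hN
    obtain ⟨_, ⟨m, a, rfl⟩, hs⟩ := exists_mul_mem_span S (fun i : Fin n => b i.castSucc ^ (N + 1)) hN
    refine ⟨N + m, ?_⟩
    let J := Ideal.span (Set.range fun i => b i ^ (N + m + 1))
    have key : ∀ z ∈ Ideal.span (Set.range fun i : Fin n => b i.castSucc ^ (N + 1)), P ^ m * z ∈ J := by
      intro z hz
      induction hz using Submodule.span_induction with
      | mem z hz =>
        obtain ⟨i, rfl⟩ := hz
        have hd : b i.castSucc ∣ P := Finset.dvd_prod_of_mem (fun i : Fin n => b i.castSucc) (Finset.mem_univ i)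
        obtain ⟨c, hc⟩ := pow_dvd_pow_of_dvd hd m
        show P ^ m * b i.castSucc ^ (N + 1) ∈ J
        rw [hc, show b i.castSucc ^ m * c * b i.castSucc ^ (N + 1) = c * b i.castSucc ^ (N + m + 1) by
          rw [show N + m + 1 = m + (N + 1) by omega, pow_add]; ring]
        exact J.mul_mem_left _ (Ideal.subset_span ⟨i.castSucc, rfl⟩)
      | zero => rw [mul_zero]; exact zero_mem _
      | add z w _ _ hz hw => rw [mul_add]; exact add_mem hz hw
      | smul c z _ hz => rw [smul_eq_mul, mul_left_comm]; exact J.mul_mem_left _ hz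
    rw [Fin.prod_univ_castSucc]
    have e : (P * x) ^ (N + m) = x ^ N * (P ^ m * (x ^ m * (1 + a * x) * P ^ N)) - a * P ^ (N + m) * x ^ (N + m + 1) := by
      ring
    show (P * x) ^ (N + m) ∈ J
    rw [e]
    exact sub_mem (J.mul_mem_left _ (key _ hs)) (J.mul_mem_left _ (Ideal.subset_span ⟨Fin.last n, rfl⟩))

/-- the monomial relation in every order -/
theorem exists_prod_pow_mem' {n : ℕ} (hA : ChainLT A n) (b : Fin n → A) (s : ℕ) :
    ∃ N : ℕ, (∏ i, b i) ^ N ∈ Ideal.span (Set.range fun i => b i ^ (N + s)) := by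
  obtain ⟨N, hN⟩ := exists_prod_pow_mem n A hA fun i => b i ^ s
  refine ⟨s * N, ?_⟩
  rw [Finset.prod_pow, ← pow_mul] at hN
  simp only [← pow_mul, mul_add, mul_one] at hN
  exact hN

/-- the ideal of the entries below `k` -/
def pre {n : ℕ} (a b : Fin n → A) (k : ℕ) : Ideal A :=
  Ideal.span ({z | ∃ j : Fin n, j.val < k ∧ (z = a j ∨ z = b j)})

/-- a complementary sequence -/
def IsCompl {n : ℕ} (a b : Fin n → A) : Prop :=
  (∀ i : Fin n, a i * b i ∈ (pre a b i.val).radical) ∧ (1 : A) ∈ (pre a b n).radical

theorem pre_congr {n : ℕ} {a a' b : Fin n → A} {k : ℕ} (h : ∀ j : Fin n, j.val < k → a j = a' j) :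
    pre a b k = pre a' b k := by
  unfold pre
  congr 1
  ext z
  constructor <;> rintro ⟨j, hj, hz⟩ <;> refine ⟨j, hj, ?_⟩ <;> simpa [h j hj] using hz

theorem exists_mul_mem_radical {n : ℕ} (S : Submonoid A) (a b : Fin n → A) (a' : Fin n → Localization S) (k : ℕ)
    (h : ∀ j : Fin n, j.val < k → Associated (algebraMap A _ (a j)) (a' j)) {z : A}
    (hz : algebraMap A (Localization S) z ∈ (pre a' (fun i => algebraMap A _ (b i)) k).radical) :
    ∃ s ∈ S, s * z ∈ (pre a b k).radical := by
  have hle : pre a' (fun i => algebraMap A (Localization S) (b i)) k ≤ (pre a b k).map (algebraMap A _) := by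
    refine Ideal.span_le.2 ?_
    rintro _ ⟨j, hj, rfl | rfl⟩
    · obtain ⟨v, hv⟩ := h j hj
      rw [← hv]
      exact Ideal.mul_mem_right _ _ (Ideal.mem_map_of_mem _ (Ideal.subset_span ⟨j, hj, Or.inl rfl⟩))
    · exact Ideal.mem_map_of_mem _ (Ideal.subset_span ⟨j, hj, Or.inr rfl⟩)
  obtain ⟨N, hN⟩ := hz
  have hN1 := Ideal.mul_mem_left _ (algebraMap A (Localization S) z) (hle hN)
  rw [← map_pow, ← map_mul, ← pow_succ', IsLocalization.algebraMap_mem_map_algebraMap_iff S] at hN1
  obtain ⟨s, hs, hs'⟩ := hN1
  refine ⟨s, hs, N + 1, ?_⟩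
  rw [mul_pow, show s ^ (N + 1) = s ^ N * s from pow_succ s N, mul_assoc]
  exact Ideal.mul_mem_left _ _ hs'

/-- complementary sequences exist -/
theorem exists_isCompl : ∀ (n : ℕ) (A : Type u) [CommRing A], ChainLT A n → ∀ b : Fin n → A,
    ∃ a : Fin n → A, IsCompl a b := by
  intro n
  induction n with
  | zero =>
    intro A _ hA b
    haveI := subsingleton_of_chainLT_zero hA
    exact ⟨b, fun i => i.elim0, by rw [Subsingleton.elim (1 : A) 0]; exact zero_mem _⟩
  | succ n ih =>
    intro A _ hA b
    classical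
    let x := b (Fin.last n)
    let S := bdry x
    let b₀ : Fin n → A := fun i => b i.castSucc
    obtain ⟨a', ha₁, ha₂⟩ := ih (Localization S) (chainLT_bdry x hA) fun i => algebraMap A _ (b₀ i)
    have step : ∀ k ≤ n, ∃ a : Fin n → A, (∀ j, Associated (algebraMap A (Localization S) (a j)) (a' j)) ∧
        ∀ i : Fin n, i.val < k → a i * b₀ i ∈ (pre a b₀ i.val).radical := by
      intro k
      induction k with
      | zero =>
        intro _
        choose a s hs using fun j => IsLocalization.exists_mk'_eq S (a' j)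
        refine ⟨a, fun j => ?_, fun i h => absurd h (Nat.not_lt_zero _)⟩
        obtain ⟨v, hv⟩ := IsLocalization.map_units (Localization S) (s j)
        refine ⟨v⁻¹, ?_⟩
        rw [← hs j, ← IsLocalization.mk'_spec (Localization S) (a j) (s j), ← hv, Units.mul_inv_cancel_right]
      | succ k ihk =>
        intro hk
        obtain ⟨a, ha, hrel⟩ := ihk (by omega)
        let i₀ : Fin n := ⟨k, hk⟩
        have hz : algebraMap A (Localization S) (a i₀ * b₀ i₀) ∈
            (pre a' (fun i => algebraMap A _ (b₀ i)) k).radical := by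
          obtain ⟨v, hv⟩ := ha i₀
          have h1 : algebraMap A (Localization S) (a i₀) = a' i₀ * ↑v⁻¹ := by rw [← hv, Units.mul_inv_cancel_right]
          rw [map_mul, h1, mul_right_comm]
          exact Ideal.mul_mem_right _ _ (ha₁ i₀)
        obtain ⟨t, ht, ht'⟩ := exists_mul_mem_radical S a b₀ a' k (fun j _ => ha j) hz
        refine ⟨Function.update a i₀ (t * a i₀), fun j => ?_, fun i hi => ?_⟩
        · by_cases hj : j = i₀
          · subst hj
            rw [Function.update_self, map_mul, mul_comm]
            exact (associated_mul_unit_left _ _ (IsLocalization.map_units (Localization S) ⟨t, ht⟩)).trans (ha i₀)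
          · rw [Function.update_of_ne hj]
            exact ha j
        · have hpre : pre (Function.update a i₀ (t * a i₀)) b₀ i.val = pre a b₀ i.val := pre_congr fun j hj =>
            Function.update_of_ne (fun e => by subst e; simp [i₀] at hj; omega) _ _
          rw [hpre]
          rcases Nat.lt_succ_iff_lt_or_eq.1 hi with h | h
          · rw [Function.update_of_ne (fun e => by subst e; simp [i₀] at h)]
            exact hrel i h
          · obtain rfl : i = i₀ := Fin.ext h
            rw [Function.update_self, mul_assoc]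
            exact ht'
    obtain ⟨a, ha, hrel⟩ := step n le_rfl
    obtain ⟨_, ⟨m, c, rfl⟩, hs⟩ := exists_mul_mem_radical S a b₀ a' n (fun j _ => ha j) (z := 1)
      (by rw [map_one]; exact ha₂)
    rw [mul_one] at hs
    let av : Fin (n + 1) → A := Fin.snoc a (1 + c * x)
    have hpre : ∀ k ≤ n, pre a b₀ k ≤ pre av b k := fun k hk => Ideal.span_mono <| by
      rintro z ⟨j, hj, hz⟩
      exact ⟨j.castSucc, hj, by simpa [av, b₀] using hz⟩
    refine ⟨av, fun i => ?_, ?_⟩
    · refine Fin.lastCases ?_ (fun i => ?_) i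
      · obtain ⟨N, hN⟩ := hs
        refine ⟨m * N + N, hpre n le_rfl ?_⟩
        have e : (av (Fin.last n) * b (Fin.last n)) ^ (m * N + N) =
            (1 + c * x) ^ (m * N) * x ^ N * (x ^ m * (1 + c * x)) ^ N := by
          simp only [av, Fin.snoc_last, x]
          rw [mul_pow, mul_pow, ← pow_mul, pow_add, pow_add]
          ring
        rw [e]
        exact Ideal.mul_mem_left _ _ hN
      · simp only [av, Fin.snoc_castSucc]
        exact Ideal.radical_mono (hpre i.val i.isLt.le) (hrel i i.isLt)
    · refine Ideal.le_radical ?_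
      have h1 : (1 + c * x) ∈ pre av b (n + 1) :=
        Ideal.subset_span ⟨Fin.last n, Nat.lt_succ_self n, Or.inl (by simp [av])⟩
      have h2 : x ∈ pre av b (n + 1) := Ideal.subset_span ⟨Fin.last n, Nat.lt_succ_self n, Or.inr rfl⟩
      rw [show (1 : A) = (1 + c * x) - c * x by ring]
      exact sub_mem h1 (Ideal.mul_mem_left _ _ h2)

/-- Kronecker: one generator too many can be absorbed -/
theorem exists_absorb {n : ℕ} (hA : ChainLT A n) (b : Fin n → A) (y : A) :
    ∃ c : Fin n → A, (∀ i, c i ∈ Ideal.span (insert y (Set.range b))) ∧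
      y ∈ (Ideal.span (Set.range c)).radical ∧ ∀ i, b i ∈ (Ideal.span (Set.range c)).radical := by
  obtain ⟨a, ha₁, ha₂⟩ := exists_isCompl n A hA b
  let c : Fin n → A := fun i => b i + y * a i
  let J := (Ideal.span (Set.range c)).radical
  have hc : ∀ i, b i + y * a i ∈ J := fun i => Ideal.le_radical (Ideal.subset_span ⟨i, rfl⟩)
  have hpre : ∀ k, (∀ j : Fin n, j.val < k → b j ∈ J ∧ y * a j ∈ J) →
      ∀ z ∈ (pre a b k).radical, y * z ∈ J := fun k h z ⟨N, hN⟩ => by
    have hle : ∀ w ∈ pre a b k, y * w ∈ J := fun w hw => by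
      induction hw using Submodule.span_induction with
      | mem w hw =>
        obtain ⟨j, hj, rfl | rfl⟩ := hw
        · exact (h j hj).2
        · exact J.mul_mem_left _ (h j hj).1
      | zero => rw [mul_zero]; exact zero_mem _
      | add p q _ _ hp hq => rw [mul_add]; exact add_mem hp hq
      | smul r p _ hp => rw [smul_eq_mul, mul_left_comm]; exact J.mul_mem_left _ hp
    refine Ideal.radical_isRadical _ ⟨N + 1, ?_⟩
    rw [show (y * z) ^ (N + 1) = y ^ N * z * (y * z ^ N) by ring]
    exact J.mul_mem_left _ (hle _ hN)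
  have key : ∀ k, k ≤ n → ∀ j : Fin n, j.val < k → b j ∈ J ∧ y * a j ∈ J := by
    intro k
    induction k with
    | zero => intro _ j hj; exact absurd hj (Nat.not_lt_zero _)
    | succ k ih =>
      intro hk j hj
      rcases Nat.lt_succ_iff_lt_or_eq.1 hj with h | h
      · exact ih (by omega) j h
      · have hprod := hpre k (ih (by omega)) _ (h ▸ ha₁ j)
        have hb : b j ∈ J := by
          refine Ideal.radical_isRadical _ ⟨2, ?_⟩
          rw [show b j ^ 2 = b j * (b j + y * a j) - y * (a j * b j) by ring]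
          exact sub_mem (J.mul_mem_left _ (hc j)) hprod
        refine ⟨hb, ?_⟩
        rw [show y * a j = (b j + y * a j) - b j by ring]
        exact sub_mem (hc j) hb
  refine ⟨c, fun i => ?_, ?_, fun i => (key n le_rfl i i.isLt).1⟩
  · exact add_mem (Ideal.subset_span (Set.mem_insert_of_mem _ ⟨i, rfl⟩))
      (Ideal.mul_mem_right _ _ (Ideal.subset_span (Set.mem_insert _ _)))
  · rw [← mul_one y]
    exact hpre n (key n le_rfl) 1 ha₂

/-- Kronecker: `n` generators suffice up to radical -/
theorem exists_radical_eq {n : ℕ} (hA : ChainLT A n) (s : Finset A) :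
    ∃ c : Fin n → A, (Ideal.span (Set.range c)).radical = (Ideal.span (s : Set A)).radical := by
  classical
  induction s using Finset.induction_on with
  | empty =>
    refine ⟨fun _ => 0, le_antisymm (Ideal.radical_mono (Ideal.span_le.2 ?_)) (Ideal.radical_mono (by simp))⟩
    rintro _ ⟨i, rfl⟩
    exact zero_mem _
  | @insert y s _ ih =>
    obtain ⟨b, hb⟩ := ih
    obtain ⟨c, hc₁, hc₂, hc₃⟩ := exists_absorb hA b y
    refine ⟨c, le_antisymm (Ideal.radical_le_radical_iff.2 (Ideal.span_le.2 ?_)) (Ideal.radical_le_radical_iff.2 (Ideal.span_le.2 ?_))⟩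
    · rintro _ ⟨i, rfl⟩
      have hle : Ideal.span (insert y (Set.range b)) ≤ (Ideal.span ((insert y s : Finset A) : Set A)).radical :=
        Ideal.span_le.2 (Set.insert_subset (Ideal.le_radical (Ideal.subset_span (by simp))) (by
          rintro _ ⟨j, rfl⟩
          exact Ideal.radical_mono (Ideal.span_mono (by simp)) (hb ▸ Ideal.le_radical (Ideal.subset_span (Set.mem_range_self j)))))
      exact hle (hc₁ i)
    · rw [Finset.coe_insert]
      refine Set.insert_subset hc₂ fun z hz => ?_
      have h : z ∈ (Ideal.span (Set.range b)).radical := hb ▸ Ideal.le_radical (Ideal.subset_span hz)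
      exact (Ideal.radical_le_radical_iff.2 (Ideal.span_le.2 (by rintro w ⟨i, rfl⟩; exact hc₃ i))) h

end Groth.Agent.KrullCL
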